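import Groth.Agent.ProjDual.K273.GenLoc
import Groth.Agent.Divis.RegStalk
import Groth.Agent.Models.TorRel
import Mathlib.AlgebraicGeometry.Stalk
import Mathlib.RingTheory.KrullDimension.Regular

/-!
# Koszul charts at the generic points of a generically reduced closed subscheme of a regular scheme
-/

set_option autoImplicit false

universe u

open CategoryTheory CategoryTheory.Limits AlgebraicGeometry Opposite TopologicalSpace
open Groth.Agent.Dual.H377.KChart

namespace K273.RegPt

/-- A generic point of a component is not a proper specialization. -/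
theorem eq_of_specializes {X : Scheme.{u}} {x : X} (hx : closure ({x} : Set X) ∈ irreducibleComponents X) (t : X)
    (h : t ⤳ x) : t = x := by
  have h1 : closure ({x} : Set X) ⊆ closure {t} :=
    closure_minimal (Set.singleton_subset_iff.mpr (specializes_iff_mem_closure.mp h)) isClosed_closure
  have h2 : closure ({t} : Set X) ⊆ closure {x} := hx.2 isIrreducible_singleton.closure h1
  exact (h.antisymm (specializes_iff_mem_closure.mpr (h2 (subset_closure rfl)))).eq

/-- A reduced local ring at a generic point is a field. -/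
theorem isField_stalk {X : Scheme.{u}} (x : X) (hx : closure ({x} : Set X) ∈ irreducibleComponents X)
    (hred : _root_.IsReduced (X.presheaf.stalk x)) : IsField (X.presheaf.stalk x) := by
  have hu : ∀ p : PrimeSpectrum (X.presheaf.stalk x), p = IsLocalRing.closedPoint _ := by
    intro p
    have h1 : (X.fromSpecStalk x) p ∈ Set.range (X.fromSpecStalk x) := ⟨p, rfl⟩
    rw [Scheme.range_fromSpecStalk] at h1
    have h2 := eq_of_specializes hx _ h1
    apply (X.fromSpecStalk x).isEmbedding.injective
    rw [h2, Scheme.fromSpecStalk_closedPoint]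
  have h3 : IsLocalRing.maximalIdeal (X.presheaf.stalk x) = ⊥ := by
    rw [eq_bot_iff]
    intro a ha
    have h4 : a ∈ nilradical (X.presheaf.stalk x) := by
      rw [nilradical_eq_sInf, Submodule.mem_sInf]
      intro p hp
      have := hu ⟨p, hp⟩
      have h5 : p = IsLocalRing.maximalIdeal (X.presheaf.stalk x) := congrArg PrimeSpectrum.asIdeal this
      rw [h5]; exact ha
    rw [nilradical_eq_zero] at h4
    exact h4
  exact (IsLocalRing.isField_iff_maximalIdeal_eq).2 h3

/-- Koszul data near a point whose local ring on `X` is a field, the ambient local ring being regular. -/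
theorem exists_seq {X P : Scheme.{u}} [IsLocallyNoetherian P] (ι : X ⟶ P) [IsClosedImmersion ι] (x : X)
    (hreg : IsRegularLocalRing (P.presheaf.stalk (ι x))) (hf : IsField (X.presheaf.stalk x)) (c : ℕ)
    (hdim : ringKrullDim (P.presheaf.stalk (ι x)) = c) :
    ∃ (V : P.affineOpens) (l : List Γ(P, V.1)), ι x ∈ V.1 ∧ l.length = c ∧
      RingTheory.Sequence.IsWeaklyRegular Γ(P, V.1) l ∧ ι.ker.ideal V = Ideal.ofList l := by
  -- the ideal at the stalk is the maximal ideal
  have hker : RingHom.ker (ι.stalkMap x).hom = IsLocalRing.maximalIdeal (P.presheaf.stalk (ι x)) := by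
    have h1 := (IsLocalRing.isField_iff_maximalIdeal_eq).1 hf
    have hloc : IsLocalHom (ι.stalkMap x).hom := inferInstance
    have h2 : IsLocalRing.maximalIdeal (P.presheaf.stalk (ι x)) =
        (IsLocalRing.maximalIdeal (X.presheaf.stalk x)).comap (ι.stalkMap x).hom :=
      Eq.symm (((IsLocalRing.local_hom_TFAE (ι.stalkMap x).hom).out 0 4).mp hloc)
    rw [h2, h1]
    rfl
  obtain ⟨rs, hrs, hrs'⟩ := Groth.Agent.Models.TorRel.exists_regular_system (P.presheaf.stalk (ι x))
  have hat : Groth.Agent.Divis.RegImm.RegAt ι.ker (ι x) := by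
    rw [Groth.Agent.Divis.RegStalk.regAt_ker_iff]
    exact ⟨rs, hrs', by rw [hker, hrs]⟩
  obtain ⟨V, hxV, l, hl, hI⟩ := hat
  refine ⟨V, l, hxV, ?_, hl, hI⟩
  let := P.presheaf.algebra_section_stalk ⟨ι x, hxV⟩
  have := V.2.isLocalization_stalk ⟨ι x, hxV⟩
  have h1 : RingTheory.Sequence.IsWeaklyRegular (P.presheaf.stalk (ι x)) (l.map (P.presheaf.germ V.1 (ι x) hxV).hom) :=
    hl.of_isLocalization (P.presheaf.stalk (ι x)) (V.2.primeIdealOf ⟨ι x, hxV⟩).asIdeal.primeCompl
  have h2 : Ideal.ofList (l.map (P.presheaf.germ V.1 (ι x) hxV).hom) =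
      IsLocalRing.maximalIdeal (P.presheaf.stalk (ι x)) := by
    rw [← Ideal.map_ofList, ← hI, ← Groth.Agent.Divis.RegStalk.ker_stalkMap ι x V hxV, hker]
  have h3 : RingTheory.Sequence.IsRegular (P.presheaf.stalk (ι x))
      (l.map (P.presheaf.germ V.1 (ι x) hxV).hom) := by
    refine ⟨h1, ?_⟩
    rw [h2]
    intro h
    have h4 : (IsLocalRing.maximalIdeal (P.presheaf.stalk (ι x))) • (⊤ : Submodule (P.presheaf.stalk (ι x))
        (P.presheaf.stalk (ι x))) = IsLocalRing.maximalIdeal _ := by
      rw [smul_eq_mul, Ideal.mul_top]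
    rw [h4] at h
    exact Ideal.IsPrime.ne_top inferInstance h.symm
  have h4 := ringKrullDim_add_length_eq_ringKrullDim_of_isRegular _ h3
  rw [h2, hdim, List.length_map] at h4
  have h5 : ringKrullDim (P.presheaf.stalk (ι x) ⧸ IsLocalRing.maximalIdeal (P.presheaf.stalk (ι x))) = 0 :=
    ringKrullDim_eq_zero_of_field (IsLocalRing.ResidueField (P.presheaf.stalk (ι x)))
  rw [h5, zero_add] at h4
  exact_mod_cast h4

end K273.RegPt
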