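import Groth.Agent.Sga2.LefPow644
import Groth.Agent.Sga2.PnHomAdj
import Groth.Agent.Dcoh.TMod
import Groth.Agent.Grpsch.PicGrp

/-!
# `Hom(L, N)` for an invertible module `L`

* `homFIso e : homF L ≅ - ⊗ L'` for `e : L ⊗ L' ≅ O`;
* `homTensorIso e N : Hom(L, N) ⊗ L ≅ N`;
* `nonempty_homTensor`: the same for an invertible module.
-/

set_option autoImplicit false

universe u

open CategoryTheory CategoryTheory.Limits AlgebraicGeometry Opposite TopologicalSpace
open Groth.Agent.Sga2.PnHomAdj Groth.Agent.Sga2.LefPow644 Groth.Agent.Dcoh.TMod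
open Groth.Agent.CohqB.HomSheaf (homSheaf)

namespace K273.InvHom

variable {X : Scheme.{u}} {L L' : X.Modules}

/-- `Hom(L, -) ≅ - ⊗ L'` for `L ⊗ L' ≅ O`. -/
noncomputable def homFIso (e : CohB1.tensorMod L L' ≅ Coh.structureModule X) :
    homF L ≅ DCoh.tensorRightMod L' :=
  ((homAdj L).ofNatIsoLeft (braidIso L)).rightAdjointUniq (equivOfInv e).toAdjunction

/-- `Hom(L, N) ≅ N ⊗ L'`. -/
noncomputable def homIso (e : CohB1.tensorMod L L' ≅ Coh.structureModule X) (N : X.Modules) :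
    homSheaf L N ≅ CohB1.tensorMod N L' := (homFIso e).app N

/-- `Hom(L, N) ⊗ L ≅ N`. -/
noncomputable def homTensorIso (e : CohB1.tensorMod L L' ≅ Coh.structureModule X) (N : X.Modules) :
    CohB1.tensorMod (homSheaf L N) L ≅ N :=
  (DCoh.tensorRightMod L).mapIso (homIso e N) ≪≫ (equivOfInv e).counitIso.app N

theorem nonempty_homTensor (hL : PicF.IsInvertible L) (N : X.Modules) :
    Nonempty (CohB1.tensorMod (homSheaf L N) L ≅ N) := by
  obtain ⟨L', -, ⟨e⟩⟩ := Groth.Agent.Grpsch.PicGrp.exists_inverse hL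
  exact ⟨homTensorIso e N⟩

end K273.InvHom
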