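import Groth.Agent.Dual.H337.ProjC
import Groth.Agent.Cohder.MapExtend
import Groth.Agent.PerfC.ClosedPush
import Groth.Agent.Sga2.PnHomAdj
import Groth.Agent.S3630
import Mathlib.CategoryTheory.Abelian.Injective.Ext
import Groth.Prelude.Def_ModSite2

/-!
# `Ext^q(i_*O_X, -)` through `Hom(O_X, -)`

* `rightDerivedIso`: derived functors through the `ℤ`-indexed complex of an injective resolution;
* `sheafHomPushIso`: `Hom(i_*O_X, -) ≅ i_* Hom(O_X, -)`;
* `extShPushIso`: `Ext^q(i_*O_X, F) ≅ i_* H^q(Hom(O_X, I))`;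
* `sheafHomF`: `ModSite.sheafHom L ≅ homF L`.
-/

set_option autoImplicit false

universe u v₁ v₂ u₁ u₂

open CategoryTheory CategoryTheory.Limits AlgebraicGeometry

namespace K273.ExtHomO

section General

variable {C : Type u₁} [Category.{v₁} C] [Abelian C] [HasInjectiveResolutions C] {D : Type u₂} [Category.{v₂} D]
  [Abelian D]

/-- Derived functors through the `ℤ`-indexed complex of an injective resolution. -/
noncomputable def rightDerivedIso (F : C ⥤ D) [F.Additive] {M : C} (R : InjectiveResolution M) (n : ℕ) :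
    (F.rightDerived n).obj M ≅
      ((F.mapHomologicalComplex (ComplexShape.up ℤ)).obj R.cochainComplex).homology (n : ℤ) :=
  R.isoRightDerivedObj F n ≪≫
    (HomologicalComplex.extendHomologyIso _ ComplexShape.embeddingUpNat (j := n) (j' := (n : ℤ)) rfl).symm ≪≫
      HomologicalComplex.homologyMapIso
        (Groth.Agent.Cohder.MapExtend.mapExtendIso F R.cocomplex ComplexShape.embeddingUpNat).symm (n : ℤ)

end General

section Comp

variable {C : Type u₁} [Category.{v₁} C] [Abelian C] {D : Type u₂} [Category.{v₂} D]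
  [Abelian D] {E : Type*} [Category* E] [Abelian E]

/-- Homology of a composite with an exact functor. -/
noncomputable def homologyCompIso (F : C ⥤ D) [F.Additive] (G : D ⥤ E) [G.Additive] [PreservesFiniteLimits G]
    [PreservesFiniteColimits G] (K : CochainComplex C ℤ) (n : ℤ) :
    (((F ⋙ G).mapHomologicalComplex (ComplexShape.up ℤ)).obj K).homology n ≅
      G.obj (((F.mapHomologicalComplex (ComplexShape.up ℤ)).obj K).homology n) :=
  (((F.mapHomologicalComplex (ComplexShape.up ℤ)).obj K).sc n).mapHomologyIso G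

end Comp

variable {X P : Scheme.{u}} (ι : X ⟶ P) [IsClosedImmersion ι]

/-- `Hom(i_*O_X, -) ≅ i_* Hom(O_X, -)`. -/
noncomputable def sheafHomPushIso [Dual3.HasHomO ι]
    [ModSite.HasSheafHom (O := P.sheaf) ((Scheme.Modules.pushforward ι).obj (Coh.structureModule X))] :
    ModSite.sheafHom (O := P.sheaf) ((Scheme.Modules.pushforward ι).obj (Coh.structureModule X)) ≅
      Dual3.homO ι ⋙ Scheme.Modules.pushforward ι :=
  ((ModSite.sheafHomAdj (O := P.sheaf) ((Scheme.Modules.pushforward ι).obj (Coh.structureModule X))).ofNatIsoLeft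
    (Groth.Agent.Dual.H337.ProjC.flipPushIso ι)).rightAdjointUniq
    ((Scheme.Modules.pullbackPushforwardAdjunction ι).comp (Dual3.homOAdj ι))

/-- `R^qH(F) ≅ i_* H^q(Hom(O_X, I))` for `H ≅ i_* Hom(O_X, -)`. -/
noncomputable def derivedPushIso [Dual3.HasHomO ι] (H : P.Modules ⥤ P.Modules) [H.Additive]
    (e : H ≅ Dual3.homO ι ⋙ Scheme.Modules.pushforward ι) [HasInjectiveResolutions P.Modules] {F : P.Modules}
    (R : InjectiveResolution F) (q : ℕ) :
    (H.rightDerived q).obj F ≅ (Scheme.Modules.pushforward ι).obj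
      ((((Dual3.homO ι).mapHomologicalComplex (ComplexShape.up ℤ)).obj R.cochainComplex).homology (q : ℤ)) :=
  have := Groth.Agent.PerfC.ClosedPush.preservesFiniteColimits ι
  rightDerivedIso H R q ≪≫
    HomologicalComplex.homologyMapIso ((NatIso.mapHomologicalComplex e (ComplexShape.up ℤ)).app
      R.cochainComplex) (q : ℤ) ≪≫
    homologyCompIso (Dual3.homO ι) (Scheme.Modules.pushforward ι) R.cochainComplex q

/-- `ModSite.sheafHom M` as an endofunctor of `P.Modules`. -/
noncomputable def shH (M : P.Modules) [ModSite.HasSheafHom (O := P.sheaf) M] : P.Modules ⥤ P.Modules :=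
  ModSite.sheafHom (O := P.sheaf) M

instance (M : P.Modules) [ModSite.HasSheafHom (O := P.sheaf) M] : (shH M).Additive :=
  ModSite.sheafHom_additive (O := P.sheaf) M

/-- `Ext^q(i_*O_X, F) ≅ i_* H^q(Hom(O_X, I))`. -/
noncomputable def extShPushIso [Dual3.HasHomO ι]
    [ModSite.HasSheafHom (O := P.sheaf) ((Scheme.Modules.pushforward ι).obj (Coh.structureModule X))]
    [HasInjectiveResolutions (ModSite.Mod P.sheaf)] {F : P.Modules} (R : InjectiveResolution F) (q : ℕ) :
    (ModSite.extSh (O := P.sheaf) ((Scheme.Modules.pushforward ι).obj (Coh.structureModule X)) q).obj F ≅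
      (Scheme.Modules.pushforward ι).obj
        ((((Dual3.homO ι).mapHomologicalComplex (ComplexShape.up ℤ)).obj R.cochainComplex).homology (q : ℤ)) :=
  have : HasInjectiveResolutions P.Modules :=
    inferInstanceAs (HasInjectiveResolutions (ModSite.Mod P.sheaf))
  derivedPushIso ι (shH ((Scheme.Modules.pushforward ι).obj (Coh.structureModule X)))
    (sheafHomPushIso ι) R q

/-- `ModSite.sheafHom L ≅ Hom(L, -)`. -/
noncomputable def sheafHomF (L : X.Modules) [ModSite.HasSheafHom (O := X.sheaf) L] :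
    ModSite.sheafHom (O := X.sheaf) L ≅ Groth.Agent.Sga2.PnHomAdj.homF L :=
  ((ModSite.sheafHomAdj (O := X.sheaf) L).ofNatIsoLeft
    (Groth.Agent.Dcoh.TMod.flipIso _ ≪≫ (Groth.Agent.Dcoh.TMod.braidIso _).symm)).rightAdjointUniq
    (Groth.Agent.Sga2.PnHomAdj.homAdj L)

end K273.ExtHomO
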