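import Groth.Agent.Dual.H376.ChartExist
import Groth.Prelude.Def_RegImm
import Mathlib.RingTheory.Regular.Flat

/-!
# Koszul charts of a regular closed immersion

* `HasCharts i r`: every point of `X` has arbitrarily small Koszul charts with `r` equations;
* `hasCharts_of_regular`: this holds for a regular immersion of codimension `r`;
* `isFinLocFreeOfRank_conormal`;
* `genC`: the generator `f_1 ∧ … ∧ f_r` of the top exterior power of the conormal module over a chart.
-/

set_option autoImplicit false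

universe u

open CategoryTheory CategoryTheory.Limits AlgebraicGeometry Opposite TopologicalSpace
open Groth.Agent.Sga67 Groth.Agent.Sga67.Sec Groth.Agent.Sga67.LocBasis Groth.Agent.Sga67.ExtSheaf
open Groth.Agent.Dual.H377.KChart Groth.Agent.Dual.H376 Groth.Agent.Dual.H376.ChartExist
  Groth.Agent.Dual.H376.GlueGen Groth.Agent.Dual.H376.DetSec

namespace K273.Charts

variable {X Y : Scheme.{u}} {i : X ⟶ Y} {r : ℕ}

variable (i r) in
/-- Every point of `X` has arbitrarily small Koszul charts. -/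
def HasCharts : Prop := ∀ (x : X) (W : Y.Opens), i x ∈ W → ∃ c : KChart i r, i x ∈ c.U ∧ c.U ≤ W

/-- The chart attached to a weakly regular sequence. -/
theorem exists_kchart_of_regular (U : Y.Opens) (hU : IsAffineOpen U) (l : List Γ(Y, U))
    (hl : RingTheory.Sequence.IsWeaklyRegular Γ(Y, U) l) (hk : i.ker.ideal ⟨U, hU⟩ = Ideal.ofList l) :
    ∃ c : KChart i l.length, c.U = U := by
  refine ⟨⟨U, hU, l.get, ?_, fun k z hz => KosAlt.exists_curryLeft_eq l _ hl k z hz⟩, rfl⟩
  rw [hk]
  change Ideal.span {x | x ∈ l} = _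
  congr 1
  ext a
  simp only [Set.mem_ofPred_eq, Set.mem_range]
  exact List.mem_iff_get

theorem hasCharts_of_regular [IsClosedImmersion i]
    (hi : RegImm.IsRegularImmersionOfCodim RegImm.Kind.regular r i) : HasCharts i r := by
  intro x W hW
  obtain ⟨V, hxV, -, l, hlen, hl, hk⟩ := hi.2 x
  have hl' : RingTheory.Sequence.IsWeaklyRegular Γ(Y, V.1) l :=
    RingTheory.Sequence.IsRegular.toIsWeaklyRegular hl
  obtain ⟨g, hgW, hxg⟩ := V.2.exists_basicOpen_le (V := W ⊓ V.1) ⟨i x, ⟨hW, hxV⟩⟩ hxV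
  have hU' : IsAffineOpen (Y.basicOpen g) := V.2.basicOpen g
  let ρ : Γ(Y, V.1) →+* Γ(Y, Y.basicOpen g) := (Y.presheaf.map (homOfLE (Y.basicOpen_le g)).op).hom
  let _ : Algebra Γ(Y, V.1) Γ(Y, Y.basicOpen g) := ρ.toAlgebra
  have hloc : IsLocalization.Away g Γ(Y, Y.basicOpen g) := V.2.isLocalization_basicOpen g
  have h1 : RingTheory.Sequence.IsWeaklyRegular Γ(Y, Y.basicOpen g) (l.map ρ) :=
    RingTheory.Sequence.IsWeaklyRegular.of_isLocalization (S := Γ(Y, Y.basicOpen g)) (T := Submonoid.powers g) hl'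
  have h2 : i.ker.ideal ⟨Y.basicOpen g, hU'⟩ = Ideal.ofList (l.map ρ) := by
    have h1 := i.ker.map_ideal (U := ⟨Y.basicOpen g, hU'⟩) (V := V) (Y.basicOpen_le g)
    rw [← h1, Scheme.Hom.ker_apply, hk, Ideal.map_ofList]
    rfl
  obtain ⟨c, hc⟩ := exists_kchart_of_regular (Y.basicOpen g) hU' (l.map ρ) h1 h2
  have hx : i x ∈ c.U := by rw [hc]; exact hxg
  have hle : c.U ≤ W := by rw [hc]; exact hgW.trans inf_le_left
  have hlen' : (l.map ρ).length = r := by rw [List.length_map, hlen]
  generalize (l.map ρ).length = n at c hx hle hlen'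
  subst hlen'
  exact ⟨c, hx, hle⟩

/-- The preimages of the charts form a basis. -/
theorem HasCharts.isBasis [IsClosedImmersion i] (hi : HasCharts i r) :
    Opens.IsBasis (Set.range (fun c : KChart i r => i ⁻¹ᵁ c.U)) := by
  rw [Opens.isBasis_iff_nbhd]
  intro V x hx
  obtain ⟨O, hO, hOV⟩ := exists_open_preimage (i := i) hx
  obtain ⟨c, hc, hcO⟩ := hi x O hO
  exact ⟨_, ⟨c, rfl⟩, hc, (i.preimage_mono hcO).trans hOV⟩

theorem HasCharts.isFinLocFreeOfRank_conormal [IsClosedImmersion i] (hi : HasCharts i r) :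
    FlatMod.IsFinLocFreeOfRank r (Omega.conormal i) := by
  intro x
  obtain ⟨c, hc, -⟩ := hi x ⊤ trivial
  exact ⟨i ⁻¹ᵁ c.U, hc, nonempty_restrict_iso_iff.mpr ⟨_, ChartConormal.isLocBasis_fN c⟩⟩

section Gen

variable [IsClosedImmersion i] {L : X.Modules} (φ : Phi r (Omega.conormal i) L)

/-- The generator `f_1 ∧ … ∧ f_r` of the top exterior power of the conormal module over a chart. -/
noncomputable def genC (c : KChart i r) : Sec L (i ⁻¹ᵁ c.U) := gen φ (U := aff c) (bN c)

theorem isGen_genC (hφ : PhiComp φ) (c : KChart i r) : IsGen (genC φ c) :=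
  isGen_gen φ hφ (U := aff c) (isLocBasis_bN c)

theorem genC_change (hφ : PhiComp φ) (c c' : KChart i r) (h : c'.U ≤ c.U) (α : Matrix (Fin r) (Fin r) Γ(Y, c'.U))
    (hα : α.mulVec c'.f = fun j => resO Y h (c.f j)) :
    res L (i.preimage_mono h) (genC φ c) = i.app c'.U α.det • genC φ c' := by
  let A : Matrix (Fin r) (Fin r) Γ(X, (aff c').1) := Matrix.of fun j k => i.app c'.U (α j k)
  have h1 : (show Γ(X, (aff c').1) from i.app c'.U α.det) = A.det := RingHom.map_det (i.app c'.U).hom α
  have h2 : res L (i.preimage_mono h) (genC φ c) = gen φ (U := aff c')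
      (fun j => res (Omega.conormal i) (U := (aff c).1) (V := (aff c').1) (i.preimage_mono h) (bN c j)) :=
    res_gen φ hφ (U := aff c) (V := aff c') (i.preimage_mono h) (bN c)
  rw [h2]
  have h3 := gen_change φ hφ (U := aff c') (V := aff c') le_rfl (bN c')
    (fun j => res (Omega.conormal i) (U := (aff c).1) (V := (aff c').1) (i.preimage_mono h) (bN c j)) A (by
      intro k
      rw [res_bN c c' h α hα k]
      refine Finset.sum_congr rfl fun j _ => ?_
      rw [res_self]
      rfl)
  rw [← h1, res_self] at h3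
  exact h3

end Gen

end K273.Charts
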