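import Groth.Agent.Dual.H376.HomSec
import Groth.Agent.Sga67.LocBasis

/-!
# Identification of a homology sheaf from data on a basis

If over the members `B k` of a basis there are surjective linear maps `Γ(B k, Z^j) → Γ(B k, T)`, compatible with
restrictions, with kernel the boundaries, then `H^j(E) ≅ T`.
-/

set_option autoImplicit false

universe u

open CategoryTheory CategoryTheory.Limits AlgebraicGeometry Opposite TopologicalSpace
open Groth.Agent.Sga67.Sec Groth.Agent.Sga67.LocBasis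

namespace K273.Descend

variable {X : Scheme.{u}} (E : CochainComplex X.Modules ℤ)

theorem nonempty_iso {j p : ℤ} (hp : p + 1 = j) (T : X.Modules) {κ : Type*} {B : κ → X.Opens}
    (hB : Opens.IsBasis (Set.range B)) (ψ : ∀ k, Sec (E.cycles j) (B k) →ₗ[Γ(X, B k)] Sec T (B k))
    (hψ : ∀ k l (h : B l ≤ B k) (s : Sec (E.cycles j) (B k)), ψ l (res _ h s) = res T h (ψ k s))
    (h0 : ∀ k (b : Sec (E.X p) (B k)), ψ k (appS (E.toCycles p j) (B k) b) = 0)
    (hinj : ∀ k (s : Sec (E.cycles j) (B k)), ψ k s = 0 → ∃ b, appS (E.toCycles p j) (B k) b = s)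
    (hsurj : ∀ k, Function.Surjective (ψ k)) : Nonempty (E.homology j ≅ T) := by
  obtain ⟨f, hf⟩ := exists_hom_of_basis' hB _ T ψ hψ
  have hnb : ∀ (x : X) (U : X.Opens), x ∈ U → ∃ k, x ∈ B k ∧ B k ≤ U := by
    intro x U hx
    obtain ⟨_, ⟨k, rfl⟩, hxk, hk⟩ := Opens.isBasis_iff_nbhd.mp hB hx
    exact ⟨k, hxk, hk⟩
  have hz : E.toCycles p j ≫ f = 0 := by
    apply hom_ext_of_locally
    intro x U hx
    obtain ⟨k, hxk, hk⟩ := hnb x U hx
    refine ⟨B k, hk, hxk, fun s => ?_⟩
    rw [appS_comp, hf, h0, appS_zero]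
  have hepi : Epi f := by
    apply epi_of_locally_surjective
    intro U s x hx
    obtain ⟨k, hxk, hk⟩ := hnb x U hx
    obtain ⟨t, ht⟩ := hsurj k (res _ hk s)
    exact ⟨B k, hk, hxk, t, by rw [hf, ht]⟩
  have hex : (ShortComplex.mk (E.toCycles p j) f hz).Exact := by
    apply exact_of_locally
    intro U s hs x hx
    obtain ⟨k, hxk, hk⟩ := hnb x U hx
    obtain ⟨b, hb⟩ := hinj k (res _ hk s) (by
      have hs' : appS f U s = 0 := hs
      rw [← hf, appS_res, hs', map_zero])
    exact ⟨B k, hk, hxk, b, hb⟩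
  have hcok : IsColimit (CokernelCofork.ofπ f hz) := by
    have : Epi (ShortComplex.mk (E.toCycles p j) f hz).g := hepi
    exact hex.gIsCokernel
  exact ⟨(E.homologyIsCokernel p j (by simp [← hp])).coconePointUniqueUpToIso hcok⟩

end K273.Descend
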