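import Groth.Agent.Dual.H377.ChartCls

/-!
# The residue relation for a coresolution of an arbitrary quasi-coherent module

Variants of the results of `Dual.H377.EvAlg` and `Dual.H377.ChartCls` without Koszul exactness on the resolved module.
-/

set_option autoImplicit false
set_option linter.unusedVariables false

universe u v w

open CategoryTheory CategoryTheory.Limits AlgebraicGeometry Opposite TopologicalSpace
open Groth.Agent.Sga67.KosAlt Groth.Agent.Sga67.KoszulTot Groth.Agent.Sga67.Sec Groth.Agent.Dual.H377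
  Groth.Agent.Dual.H377.AltIdx Groth.Agent.Dual.H377.InjExact Groth.Agent.Dual.H377.ZigE Groth.Agent.Dual.H377.EvAlg
  Groth.Agent.Dual.H377.KChart Groth.Agent.Dual.H377.SecInj Groth.Agent.Dual.H377.ChartCls

namespace K273.EvF

section Alg

variable {A : Type u} [CommRing A] {n : ℕ} {J : ℕ → Type u} [∀ q, AddCommGroup (J q)] [∀ q, Module A (J q)]
  (d : ∀ q, J q →ₗ[A] J (q + 1)) (f : Fin n → A)

/-- Exactness of `J` and Koszul exactness of its terms, except for `J 0`. -/
structure HypF : Prop where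
  hdd : ∀ q x, d (q + 1) (d q x) = 0
  hex0 : ∀ x, d 0 x = 0 → x = 0
  hex : ∀ q x, d (q + 1) x = 0 → ∃ y, d q y = x
  K1 : ∀ q k, k < n → ∀ z : Alt A n k (J (q + 1)), Cy f z → ∃ w : Alt A n (k + 1) (J (q + 1)), w.curryLeft f = z

variable {d f}

theorem HypF.exists_ev (H : HypF d f) (s : J (n + 1)) (hf : ∀ j, f j • s = 0) (hd : d (n + 1) s = 0) :
    ∃ a, Ev d f s a := by
  obtain ⟨a, ha⟩ := exists_zg (S := (vol s : Alt A n n (J (n + 1)))) H.hex (cy_vol f s hf) (by
    rw [comp_vol, hd, vol_zero]) n 0 0 (zero_add n) (zero_add n)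
  refine ⟨a ![], ?_⟩
  rw [eq_cst a] at ha
  exact ha

theorem HypF.d_eq_zero (H : HypF d f) {s : J (n + 1)} {a : J 0} (h : Ev d f s a) : d (n + 1) s = 0 := by
  have h1 := Zg.comp_eq_zero H.hdd h
  rw [comp_vol] at h1
  have h2 := congrArg (fun T : Alt A n n (J (n + 2)) => T (bas A n)) h1
  rw [← vol_bas (A := A) (n := n) (d (n + 1) s)]
  exact h2

theorem HypF.ev_zero (H : HypF d f) {a : J 0} (h : Ev d f 0 a) : ∃ x : Fin n → J 0, a = ∑ j, f j • x j := by
  obtain ⟨x, hx⟩ := Zg.zero H.hdd H.hex vol_zero h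
  have h1 := eq_zero_of_comp H.hex0 _ hx
  refine ⟨fun j => x (fun _ => Pi.basisFun A (Fin n) j), ?_⟩
  rw [← curryLeft_one_apply]
  have h2 := congrArg (fun T : Alt A n 0 (J 0) => T ![]) h1
  have h3 : a - x.curryLeft f ![] = 0 := h2
  exact sub_eq_zero.mp h3

theorem HypF.up_aux (H : HypF d f) {Q : ℕ} {S : Alt A n n (J (Q + 1))} {m k : ℕ} {a : Alt A n k (J 0)}
    (h : Zg d f S m k 0 a) (hk : k + m = n) (x : Alt A n (k + 1) (J 0)) (hx : a = x.curryLeft f) :
    (m = 0 ∧ S = 0) ∨ ∃ T : Alt A n n (J Q), Cy f T ∧ (d Q).compAlternatingMap T = S := by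
  cases h with
  | base a h =>
    left
    have h1 : x = 0 := alt_eq_zero_of_lt n (n + 1) (Nat.lt_succ_self n) x
    refine ⟨rfl, ?_⟩
    rw [← h, hx, h1, curry_zero, comp_zero']
  | step a b h hb =>
    right
    refine Zg.up H.hdd H.K1 hb (Nat.succ_pos _) (by omega) ((d 0).compAlternatingMap x) (comp_comp_eq_zero H.hdd _) ?_
    change (b - (d 0).compAlternatingMap x).curryLeft f = 0
    rw [curry_sub, h, ← comp_curryLeft, ← hx, sub_self]

theorem HypF.ev_boundary (H : HypF d f) {s : J (n + 1)} {a : J 0} (h : Ev d f s a) (x : Fin n → J 0)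
    (hx : a = ∑ j, f j • x j) : ∃ t : J n, (∀ j, f j • t = 0) ∧ d n t = s := by
  obtain ⟨z, hz⟩ := exists_alt_one (A := A) x
  rcases H.up_aux h (zero_add n) z (by
    apply cst_ext
    rw [curryLeft_one_apply, cst_apply, hx]
    exact Finset.sum_congr rfl fun j _ => by rw [hz]) with ⟨hn, hS⟩ | ⟨T, hT, hT'⟩
  · refine ⟨0, fun j => smul_zero _, ?_⟩
    rw [map_zero, ← vol_bas (A := A) (n := n) s, hS]
    rfl
  · exact exists_of_cy_comp hT hT'

theorem HypF.exists_of (H : HypF d f) (a : J 0) : ∃ s : J (n + 1), (∀ j, f j • s = 0) ∧ d (n + 1) s = 0 ∧ Ev d f s a := by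
  obtain ⟨S, hS, hS'⟩ := exists_zg_up (d := d) (f := f) H.hdd H.K1 (Q := n) n 0 0 (cst A n a) (zero_add n)
    (zero_add n) trivial
  have h1 : Ev d f (S (bas A n)) a := by
    have := hS'
    rw [eq_vol S] at this
    exact this
  exact ⟨S (bas A n), smul_eq_zero_of_cy f S hS, H.d_eq_zero h1, h1⟩

end Alg

section Chart

variable {X Y : Scheme.{u}} {i : X ⟶ Y} {r : ℕ} {F : Y.Modules} (R : InjectiveResolution F)

theorem hypF (hF : Coh.IsQCoh F) (c : KChart i r) : HypF (d R c.U) c.f where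
  hdd := hdd R c.U
  hex0 := hex0 R c.U
  hex := hex R hF c.hU
  K1 := fun q k hk z hz => K1 (R.cocomplex.X q) c.hU c.f c.hex hk z hz

/-- The comparison with the `ℤ`-indexed complex. -/
noncomputable def cmp (q : ℕ) (j : ℤ) (h : (q : ℤ) = j) (U : Y.Opens) :
    Sec (R.cochainComplex.X j) U ≃ₗ[Γ(Y, U)] J R U (q + 1) where
  toFun := appS (R.cochainComplexXIso j q h).hom U
  invFun := appS (R.cochainComplexXIso j q h).inv U
  map_add' := map_add _
  map_smul' := map_smul _
  left_inv := appS_hom_inv _ U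
  right_inv := appS_inv_hom _ U

theorem cmp_d (q : ℕ) (j j1 : ℤ) (h : (q : ℤ) = j) (h1 : ((q + 1 : ℕ) : ℤ) = j1) (U : Y.Opens)
    (x : Sec (R.cochainComplex.X j) U) :
    cmp R (q + 1) j1 h1 U (appS (R.cochainComplex.d j j1) U x) = d R U (q + 1) (cmp R q j h U x) := by
  rw [R.cochainComplex_d j j1 q (q + 1) h h1]
  exact appS_inv_hom (R.cochainComplexXIso j1 (q + 1) h1) U _

theorem cmp_res (q : ℕ) (j : ℤ) (h : (q : ℤ) = j) {U V : Y.Opens} (hV : V ≤ U)
    (x : Sec (R.cochainComplex.X j) U) :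
    cmp R q j h V (res _ hV x) = res _ hV (cmp R q j h U x) := appS_res _ hV x

theorem sec_neg (j : ℤ) (hj : j < 0) (U : Y.Opens) (x : Sec (R.cochainComplex.X j) U) : x = 0 := by
  have h : IsZero (R.cochainComplex.X j) := CochainComplex.isZero_of_isStrictlyGE _ 0 _ hj
  rw [← appS_id (R.cochainComplex.X j) U x, h.eq_of_src (𝟙 _) 0, appS_zero]

/-- The relation "`a` is a residue of the torsion cocycle `s`". -/
def EvC (c : KChart i r) (s : Sec (R.cochainComplex.X r) c.U) (a : Sec F c.U) : Prop :=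
  Ev (d R c.U) c.f (cmp R r r rfl c.U s) a

variable {R}

theorem EvC.add {c : KChart i r} {s s' : Sec (R.cochainComplex.X r) c.U} {a a' : Sec F c.U}
    (h : EvC R c s a) (h' : EvC R c s' a') : EvC R c (s + s') (a + a') := by
  have := Ev.add h h'
  rwa [← map_add] at this

theorem EvC.sub {c : KChart i r} {s s' : Sec (R.cochainComplex.X r) c.U} {a a' : Sec F c.U}
    (h : EvC R c s a) (h' : EvC R c s' a') : EvC R c (s - s') (a - a') := by
  have := Ev.sub h h'
  rwa [← map_sub] at this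

theorem EvC.smul {c : KChart i r} (b : Γ(Y, c.U)) {s : Sec (R.cochainComplex.X r) c.U} {a : Sec F c.U}
    (h : EvC R c s a) : EvC R c (b • s) (b • a) := by
  have := Ev.smul b h
  rwa [← map_smul] at this

theorem exists_evC (hF : Coh.IsQCoh F) (c : KChart i r) (s : Sec (R.cochainComplex.X r) c.U)
    (hs : ∀ k, c.f k • s = 0) (hd : appS (R.cochainComplex.d r (r + 1)) c.U s = 0) : ∃ a, EvC R c s a := by
  obtain ⟨a, ha⟩ := (hypF R hF c).exists_ev (cmp R r r rfl c.U s) (by
      intro k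
      rw [← map_smul, hs, map_zero]) (by
      exact (cmp_d R r r (r + 1) rfl rfl c.U s).symm.trans (by rw [hd, map_zero]))
  exact ⟨a, ha⟩

theorem EvC.of_zero (hF : Coh.IsQCoh F) {c : KChart i r} {a : Sec F c.U} (h : EvC R c 0 a) :
    ∃ x : Fin r → Sec F c.U, a = ∑ j, c.f j • x j := by
  unfold EvC at h
  rw [map_zero] at h
  exact (hypF R hF c).ev_zero h

/-- Boundaries of torsion elements have residue zero. -/
theorem evC_boundary {c : KChart i r} (y : Sec (R.cochainComplex.X ((r : ℤ) - 1)) c.U)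
    (hy : ∀ k, c.f k • y = 0) : EvC R c (appS (R.cochainComplex.d ((r : ℤ) - 1) r) c.U y) 0 := by
  unfold EvC
  cases r with
  | zero =>
    have h4 := sec_neg R _ (by simp) c.U y
    rw [h4, map_zero, map_zero]
    exact ev_iff_of_zero.mpr (map_zero _)
  | succ q =>
    have h0 : ((q : ℕ) : ℤ) = ((q + 1 : ℕ) : ℤ) - 1 := by push_cast; ring
    rw [cmp_d R q _ _ h0 rfl]
    refine ev_boundary_zero (Nat.succ_pos q) _ ?_
    intro k
    have := (cmp R q _ h0 c.U).map_smul (c.f k) y
    rw [hy, map_zero] at this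
    exact this.symm

/-- A torsion cocycle whose residue is in the ideal is a boundary. -/
theorem EvC.exists_boundary (hF : Coh.IsQCoh F) {c : KChart i r} {s : Sec (R.cochainComplex.X r) c.U}
    {a : Sec F c.U} (h : EvC R c s a) (x : Fin r → Sec F c.U) (hx : a = ∑ j, c.f j • x j) :
    ∃ y : Sec (R.cochainComplex.X ((r : ℤ) - 1)) c.U, (∀ k, c.f k • y = 0) ∧
      appS (R.cochainComplex.d ((r : ℤ) - 1) r) c.U y = s := by
  unfold EvC at h
  cases r with
  | zero =>
    refine ⟨0, fun k => smul_zero _, ?_⟩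
    rw [map_zero]
    have h1 := ev_iff_of_zero.mp h
    rw [hx, Finset.univ_eq_empty, Finset.sum_empty] at h1
    have h2 : (d R c.U 0) (0 : J R c.U 0) = 0 := map_zero _
    have h3 : cmp R 0 _ rfl c.U s = 0 := h1.symm.trans h2
    exact ((LinearEquiv.map_eq_zero_iff _).mp h3).symm
  | succ q =>
    obtain ⟨t, ht, ht'⟩ := (hypF R hF c).ev_boundary h x hx
    have h0 : ((q : ℕ) : ℤ) = ((q + 1 : ℕ) : ℤ) - 1 := by push_cast; ring
    refine ⟨(cmp R q _ h0 c.U).symm t, fun k => ?_, ?_⟩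
    · rw [← map_smul]
      have := ht k
      rw [this, map_zero]
    · apply (cmp R (q + 1) _ rfl c.U).injective
      rw [cmp_d R q _ _ h0 rfl, LinearEquiv.apply_symm_apply]
      exact ht'

/-- Every section is a residue. -/
theorem exists_of_evC (hF : Coh.IsQCoh F) (c : KChart i r) (a : Sec F c.U) :
    ∃ s : Sec (R.cochainComplex.X r) c.U, (∀ k, c.f k • s = 0) ∧
      appS (R.cochainComplex.d r (r + 1)) c.U s = 0 ∧ EvC R c s a := by
  obtain ⟨s, hs, hs', hs''⟩ := (hypF R hF c).exists_of a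
  refine ⟨(cmp R r r rfl c.U).symm s, fun k => ?_, ?_, ?_⟩
  · rw [← map_smul]
    have := hs k
    rw [this, map_zero]
  · apply (cmp R (r + 1) (r + 1) rfl c.U).injective
    rw [cmp_d R r r (r + 1) rfl rfl, map_zero, LinearEquiv.apply_symm_apply]
    exact hs'
  · unfold EvC
    rw [LinearEquiv.apply_symm_apply]
    exact hs''

/-- The change of charts. -/
theorem EvC.change {c c1 : KChart i r} (hc : c1.U ≤ c.U) (α : Matrix (Fin r) (Fin r) Γ(Y, c1.U))
    (hα : α.mulVec c1.f = fun j => resO Y hc (c.f j)) {s : Sec (R.cochainComplex.X r) c.U} {a : Sec F c.U}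
    (h : EvC R c s a) : EvC R c1 (α.det • res _ hc s) (res F hc a) := by
  have h1 : Ev (d R c1.U) (fun j => resO Y hc (c.f j)) (res _ hc (cmp R r r rfl c.U s)) (res F hc a) :=
    Ev.map (d' := d R c1.U) (resO Y hc) (fun q => res (JM R q) hc)
      (fun q a e => res_smul _ hc a e) (fun q e => appS_res (dM R q) hc e) h
  unfold EvC
  rw [map_smul, cmp_res]
  exact Ev.comp α hα h1

end Chart

end K273.EvF
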