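import Groth.Agent.Dual.H376.GlueGen
import Groth.Agent.CohqB.HomSheaf

/-!
# Sections of `Hom(L, N)` when `L` has a generator

For a local generator `e` of `L` over `U`, the sections of `Hom(L, N)` over `U` are the sections of `N` over `U`
(`homEquiv`), through the value at `e`.
-/

set_option autoImplicit false

universe u

open CategoryTheory CategoryTheory.Limits AlgebraicGeometry Opposite TopologicalSpace
open Groth.Agent.Sga67.Sec Groth.Agent.Sga67.LocBasis Groth.Agent.Dual.H376.GlueGen
open Groth.Agent.CohqB.HomSheaf hiding res_res res_self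

namespace K273.GenHom

variable {X : Scheme.{u}} {L N : X.Modules} {U : X.Opens} {e : Sec L U} (he : IsGen e)

/-- The value of a section of `Hom(L, N)` at a section of `L`. -/
noncomputable def ev (s : Sec (homSheaf L N) U) {V : X.Opens} (h : V ≤ U) (m : Sec L V) : Sec N V :=
  comp (M := L) (N := N) s V h m

theorem ev_res (s : Sec (homSheaf L N) U) {V W : X.Opens} (h : V ≤ U) (h' : W ≤ V) (m : Sec L V) :
    ev s (h'.trans h) (res L h' m) = res N h' (ev s h m) :=
  comp_map (M := L) (N := N) s h h' m

theorem ev_smul (s : Sec (homSheaf L N) U) {V : X.Opens} (h : V ≤ U) (a : Γ(X, V)) (m : Sec L V) :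
    ev s h (a • m) = a • ev s h m := map_smul (comp (M := L) (N := N) s V h) a m

theorem ev_ressec (s : Sec (homSheaf L N) U) {V W : X.Opens} (h : V ≤ U) (h' : W ≤ V) (m : Sec L W) :
    ev (res _ h s) h' m = ev s (h'.trans h) m := rfl

theorem ev_add (s t : Sec (homSheaf L N) U) {V : X.Opens} (h : V ≤ U) (m : Sec L V) :
    ev (s + t) h m = ev s h m + ev t h m := rfl

theorem ev_smul_self (a : Γ(X, U)) (s : Sec (homSheaf L N) U) (m : Sec L U) :
    ev (a • s) le_rfl m = a • ev s le_rfl m := by
  have h := comp_self_smul (M := L) (N := N) a s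
  exact congr($h m)

include he in
/-- A section of `Hom(L, N)` is determined by its value at the generator. -/
theorem hom_ext {s t : Sec (homSheaf L N) U} (h : ev s le_rfl e = ev t le_rfl e) : s = t := by
  refine sec_ext (M := L) (N := N) (s := s) (t := t) fun V hV m => ?_
  change ev s hV m = ev t hV m
  rw [← co_smul he hV m, ev_smul, ev_smul]
  congr 1
  have h1 := ev_res s le_rfl hV e
  have h2 := ev_res t le_rfl hV e
  exact h1.trans ((congrArg (res N hV) h).trans h2.symm)

/-- The section of `Hom(L, N)` with given value at the generator. -/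
noncomputable def mkHomSec (n : Sec N U) : Sec (homSheaf L N) U :=
  mkSec (M := L) (N := N) (U := U) (fun V hV => trans he n hV) (by
    intro V W hV h m
    change trans he n (h.trans hV) (res L h m) = res N h (trans he n hV m)
    have h1 : trans he n (h.trans hV) (res L h m) =
        trans he n (h.trans hV) (res L h (co he hV m • res L hV e)) := by rw [co_smul he hV m]
    rw [h1, res_smul, res_res, trans_smul]
    change _ = res N h (co he hV m • res N hV n)
    rw [res_smul, res_res])

theorem ev_mkHomSec (n : Sec N U) : ev (mkHomSec he n) le_rfl e = n := by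
  change trans he n le_rfl e = n
  have h := trans_smul he n (le_refl U) 1
  rw [one_smul, one_smul, res_self, res_self] at h
  exact h

/-- Evaluation at the generator. -/
noncomputable def homEquiv : Sec (homSheaf L N) U ≃ₗ[Γ(X, U)] Sec N U where
  toFun s := ev s le_rfl e
  invFun n := mkHomSec he n
  map_add' s t := ev_add s t le_rfl e
  map_smul' a s := ev_smul_self a s e
  left_inv _ := hom_ext he (ev_mkHomSec he _)
  right_inv n := ev_mkHomSec he n

theorem homEquiv_apply (s : Sec (homSheaf L N) U) : homEquiv he s = ev s le_rfl e := rfl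

theorem ev_homEquiv_symm (n : Sec N U) : ev ((homEquiv (N := N) he).symm n) le_rfl e = n := ev_mkHomSec he n

end K273.GenHom
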