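import Groth.Agent.ProjDual.K273.PullClosed
import Groth.Agent.ProjDual.K273.Charts
import Groth.Agent.ProjDual.K273.Descend
import Groth.Agent.ProjDual.K273.EvF
import Groth.Agent.ProjDual.K273.GenHom
import Groth.Agent.Dual.H376.Core

/-!
# The fundamental local isomorphism

For a closed immersion `i : X ⟶ Y` with Koszul charts of length `r`, a quasi-coherent `O_Y`-module `F` with an injective
resolution `I` and a top exterior power `L` of the conormal sheaf: `H^r(Hom(O_X, I)) ≅ Hom(L, i^*F)` (`main`).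
-/

set_option autoImplicit false

universe u

open CategoryTheory CategoryTheory.Limits AlgebraicGeometry Opposite TopologicalSpace
open Groth.Agent.Sga67 Groth.Agent.Sga67.Sec Groth.Agent.Sga67.LocBasis Groth.Agent.Sga67.ExtSheaf
open Groth.Agent.Dual.H377.KChart Groth.Agent.Dual.H376 Groth.Agent.Dual.H376.ChartExist
  Groth.Agent.Dual.H376.GlueGen Groth.Agent.Dual.H376.DetSec Groth.Agent.Dual.H376.ExtData Groth.Agent.Dual.H376.Core
open Groth.Agent.Dual.H366.ConSec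
open K273.PullClosed K273.Charts K273.EvF K273.GenHom
open Groth.Agent.CohqB.HomSheaf (homSheaf)

namespace K273.Fund

variable {X Y : Scheme.{u}} {i : X ⟶ Y} [IsClosedImmersion i] [Dual3.HasHomO i] {r : ℕ} {F : Y.Modules}
  (R : InjectiveResolution F)

variable (i) in
/-- `Hom(O_X, I)`. -/
noncomputable abbrev HI : CochainComplex X.Modules ℤ := EE i R.cochainComplex

/-- The section of `I` underlying a cocycle of `Hom(O_X, I)` over a chart. -/
noncomputable def und (c : KChart i r) : Sec ((HI i R).cycles (r : ℤ)) (i ⁻¹ᵁ c.U) →+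
    Sec (R.cochainComplex.X (r : ℤ)) c.U :=
  (kE (i := i) (I := R.cochainComplex) (r : ℤ) c.U).comp (appS ((HI i R).iCycles (r : ℤ)) (i ⁻¹ᵁ c.U)).toAddMonoidHom

theorem und_apply (c : KChart i r) (z : Sec ((HI i R).cycles (r : ℤ)) (i ⁻¹ᵁ c.U)) :
    und R c z = kE (i := i) (I := R.cochainComplex) (r : ℤ) c.U (appS ((HI i R).iCycles (r : ℤ)) (i ⁻¹ᵁ c.U) z) := rfl

theorem und_smul (c : KChart i r) (a : Γ(Y, c.U)) (z : Sec ((HI i R).cycles (r : ℤ)) (i ⁻¹ᵁ c.U)) :
    und R c (i.app c.U a • z) = a • und R c z := by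
  rw [und_apply, map_smul, kE_smul]
  rfl

theorem und_res {c c' : KChart i r} (h : c'.U ≤ c.U) (z : Sec ((HI i R).cycles (r : ℤ)) (i ⁻¹ᵁ c.U)) :
    und R c' (res _ (i.preimage_mono h) z) = res _ h (und R c z) := by
  rw [und_apply, appS_res, kE_res]
  rfl

theorem und_tors (c : KChart i r) (z : Sec ((HI i R).cycles (r : ℤ)) (i ⁻¹ᵁ c.U)) (k : Fin r) :
    c.f k • und R c z = 0 := tors_kE c _ _ k

theorem und_d (c : KChart i r) (z : Sec ((HI i R).cycles (r : ℤ)) (i ⁻¹ᵁ c.U)) :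
    appS (R.cochainComplex.d (r : ℤ) ((r : ℤ) + 1)) c.U (und R c z) = 0 := by
  rw [und_apply, ← kE_d, ← appS_comp, (HI i R).iCycles_d, appS_zero, map_zero]

theorem und_injective (c : KChart i r) : Function.Injective (und (i := i) R c) := by
  intro z z' h
  exact injective_of_mono ((HI i R).iCycles (r : ℤ)) _ (kE_injective (i := i) (r : ℤ) c.U h)

/-- Torsion cocycles come from `Hom(O_X, I)`. -/
theorem exists_und (c : KChart i r) (s : Sec (R.cochainComplex.X (r : ℤ)) c.U) (hs : ∀ k, c.f k • s = 0)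
    (hd : appS (R.cochainComplex.d (r : ℤ) ((r : ℤ) + 1)) c.U s = 0) : ∃ z, und R c z = s := by
  obtain ⟨w, rfl⟩ := exists_kE (i := i) c (j := (r : ℤ)) hs
  have hw : appS ((HI i R).d (r : ℤ) ((r : ℤ) + 1)) (i ⁻¹ᵁ c.U) w = 0 := by
    apply kE_injective (i := i) (I := R.cochainComplex)
    rw [kE_d, map_zero]
    exact hd
  have hex : (ShortComplex.mk ((HI i R).iCycles (r : ℤ)) ((HI i R).d (r : ℤ) ((r : ℤ) + 1))
      ((HI i R).iCycles_d _ _)).Exact :=
    ShortComplex.exact_of_f_is_kernel _ ((HI i R).cyclesIsKernel (r : ℤ) ((r : ℤ) + 1) (by simp))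
  obtain ⟨t, rfl⟩ := exists_of_appS_eq_zero hex w hw
  exact ⟨t, rfl⟩

/-- Boundaries. -/
theorem und_toCycles (c : KChart i r) (b : Sec ((HI i R).X ((r : ℤ) - 1)) (i ⁻¹ᵁ c.U)) :
    und R c (appS ((HI i R).toCycles ((r : ℤ) - 1) (r : ℤ)) _ b) =
      appS (R.cochainComplex.d ((r : ℤ) - 1) (r : ℤ)) c.U (kE (i := i) (I := R.cochainComplex) ((r : ℤ) - 1) c.U b) := by
  rw [und_apply, ← appS_comp, (HI i R).toCycles_i, kE_d]

/-- The residue relation for cocycles of `Hom(O_X, I)`. -/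
def Res (c : KChart i r) (z : Sec ((HI i R).cycles (r : ℤ)) (i ⁻¹ᵁ c.U))
    (n : Sec ((Scheme.Modules.pullback i).obj F) (i ⁻¹ᵁ c.U)) : Prop :=
  ∃ a : Sec F c.U, EvC R c (und R c z) a ∧ secS i F c.U a = n

variable {R}

theorem Res.add {c : KChart i r} {z z' : Sec ((HI i R).cycles (r : ℤ)) (i ⁻¹ᵁ c.U)}
    {n n' : Sec ((Scheme.Modules.pullback i).obj F) (i ⁻¹ᵁ c.U)} (h : Res R c z n) (h' : Res R c z' n') :
    Res R c (z + z') (n + n') := by
  obtain ⟨a, ha, rfl⟩ := h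
  obtain ⟨a', ha', rfl⟩ := h'
  refine ⟨a + a', ?_, map_add _ _ _⟩
  rw [map_add]
  exact ha.add ha'

theorem Res.smul {c : KChart i r} (b : Γ(Y, c.U)) {z : Sec ((HI i R).cycles (r : ℤ)) (i ⁻¹ᵁ c.U)}
    {n : Sec ((Scheme.Modules.pullback i).obj F) (i ⁻¹ᵁ c.U)} (h : Res R c z n) :
    Res R c (i.app c.U b • z) (i.app c.U b • n) := by
  obtain ⟨a, ha, rfl⟩ := h
  refine ⟨b • a, ?_, secS_smul i F c.U b a⟩
  rw [und_smul]
  exact ha.smul b

theorem Res.unique (hF : Coh.IsQCoh F) {c : KChart i r} {z : Sec ((HI i R).cycles (r : ℤ)) (i ⁻¹ᵁ c.U)}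
    {n n' : Sec ((Scheme.Modules.pullback i).obj F) (i ⁻¹ᵁ c.U)} (h : Res R c z n) (h' : Res R c z n') :
    n = n' := by
  obtain ⟨a, ha, rfl⟩ := h
  obtain ⟨a', ha', rfl⟩ := h'
  have h1 := ha.sub ha'
  rw [sub_self] at h1
  rw [← sub_eq_zero, ← map_sub]
  exact (secS_eq_zero_iff i F c hF _).mpr (h1.of_zero hF)

theorem exists_res (hF : Coh.IsQCoh F) (c : KChart i r) (z : Sec ((HI i R).cycles (r : ℤ)) (i ⁻¹ᵁ c.U)) :
    ∃ n, Res R c z n := by
  obtain ⟨a, ha⟩ := exists_evC hF c (und R c z) (und_tors R c z) (und_d R c z)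
  exact ⟨_, a, ha, rfl⟩

variable (R) in
/-- The residue. -/
noncomputable def resid (hF : Coh.IsQCoh F) (c : KChart i r) :
    Sec ((HI i R).cycles (r : ℤ)) (i ⁻¹ᵁ c.U) →ₗ[Γ(X, i ⁻¹ᵁ c.U)]
      Sec ((Scheme.Modules.pullback i).obj F) (i ⁻¹ᵁ c.U) where
  toFun z := (exists_res hF c z).choose
  map_add' z z' := (exists_res hF c (z + z')).choose_spec.unique hF
    ((exists_res hF c z).choose_spec.add (exists_res hF c z').choose_spec)
  map_smul' b z := by
    obtain ⟨a, rfl⟩ := i.app_surjective c.U c.hU b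
    exact (exists_res hF c (i.app c.U a • z)).choose_spec.unique hF ((exists_res hF c z).choose_spec.smul a)

theorem res_resid (hF : Coh.IsQCoh F) (c : KChart i r) (z : Sec ((HI i R).cycles (r : ℤ)) (i ⁻¹ᵁ c.U)) :
    Res R c z (resid R hF c z) := (exists_res hF c z).choose_spec

theorem resid_eq (hF : Coh.IsQCoh F) {c : KChart i r} {z : Sec ((HI i R).cycles (r : ℤ)) (i ⁻¹ᵁ c.U)}
    {n : Sec ((Scheme.Modules.pullback i).obj F) (i ⁻¹ᵁ c.U)} (h : Res R c z n) : resid R hF c z = n :=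
  (res_resid hF c z).unique hF h

theorem Res.change {c c' : KChart i r} {z : Sec ((HI i R).cycles (r : ℤ)) (i ⁻¹ᵁ c.U)}
    {n : Sec ((Scheme.Modules.pullback i).obj F) (i ⁻¹ᵁ c.U)} (h : Res R c z n)
    (hU : c'.U ≤ c.U) (α : Matrix (Fin r) (Fin r) Γ(Y, c'.U)) (hα : α.mulVec c'.f = fun j => resO Y hU (c.f j)) :
    Res R c' (i.app c'.U α.det • res _ (i.preimage_mono hU) z) (res _ (i.preimage_mono hU) n) := by
  obtain ⟨a, ha, rfl⟩ := h
  refine ⟨res F hU a, ?_, secS_res i F hU a⟩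
  rw [und_smul, und_res]
  exact ha.change hU α hα

theorem resid_change (hF : Coh.IsQCoh F) {c c' : KChart i r} (hU : c'.U ≤ c.U)
    (α : Matrix (Fin r) (Fin r) Γ(Y, c'.U)) (hα : α.mulVec c'.f = fun j => resO Y hU (c.f j))
    (z : Sec ((HI i R).cycles (r : ℤ)) (i ⁻¹ᵁ c.U)) :
    res _ (i.preimage_mono hU) (resid R hF c z) =
      i.app c'.U α.det • resid R hF c' (res _ (i.preimage_mono hU) z) := by
  have h1 := (res_resid hF c z).change hU α hα
  have h2 := (res_resid hF c' (res _ (i.preimage_mono hU) z)).smul α.det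
  exact h1.unique hF h2

theorem resid_boundary (hF : Coh.IsQCoh F) (c : KChart i r) (b : Sec ((HI i R).X ((r : ℤ) - 1)) (i ⁻¹ᵁ c.U)) :
    resid R hF c (appS ((HI i R).toCycles ((r : ℤ) - 1) (r : ℤ)) _ b) = 0 := by
  apply resid_eq hF
  refine ⟨0, ?_, map_zero _⟩
  rw [und_toCycles]
  exact evC_boundary _ (tors_kE c _ _)

theorem exists_toCycles (hF : Coh.IsQCoh F) (c : KChart i r) (z : Sec ((HI i R).cycles (r : ℤ)) (i ⁻¹ᵁ c.U))
    (hz : resid R hF c z = 0) : ∃ b, appS ((HI i R).toCycles ((r : ℤ) - 1) (r : ℤ)) _ b = z := by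
  obtain ⟨a, ha, ha'⟩ := res_resid hF c z
  rw [hz] at ha'
  obtain ⟨x, hx⟩ := (secS_eq_zero_iff i F c hF a).mp ha'
  obtain ⟨y, hy, hy'⟩ := ha.exists_boundary hF x hx
  obtain ⟨b, rfl⟩ := exists_kE (i := i) c hy
  refine ⟨b, ?_⟩
  apply und_injective R c
  rw [und_toCycles]
  exact hy'

theorem resid_surjective (hF : Coh.IsQCoh F) (c : KChart i r) : Function.Surjective (resid (i := i) R hF c) := by
  intro n
  obtain ⟨a, rfl⟩ := secS_surjective i F hF c.hU n
  obtain ⟨s, hs, hd, hs'⟩ := exists_of_evC (R := R) hF c a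
  obtain ⟨z, rfl⟩ := exists_und R c s hs hd
  exact ⟨z, resid_eq hF ⟨a, hs', rfl⟩⟩

section Glue

variable {L : X.Modules} {φ : Phi r (Omega.conormal i) L} (hφ : PhiComp φ)

include hφ in
theorem compat (hF : Coh.IsQCoh F) {c c' : KChart i r} (hU : c'.U ≤ c.U)
    (z : Sec ((HI i R).cycles (r : ℤ)) (i ⁻¹ᵁ c.U)) :
    (homEquiv (N := (Scheme.Modules.pullback i).obj F) (isGen_genC φ hφ c')).symm
        (resid R hF c' (res _ (i.preimage_mono hU) z)) =
      res _ (i.preimage_mono hU)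
        ((homEquiv (N := (Scheme.Modules.pullback i).obj F) (isGen_genC φ hφ c)).symm (resid R hF c z)) := by
  obtain ⟨α, hα⟩ := exists_matrix c c' hU
  refine hom_ext ((isGen_genC φ hφ c).restrict (i.preimage_mono hU)) ?_
  rw [genC_change φ hφ c c' hU α hα, ev_smul, ev_homEquiv_symm, ← resid_change hF hU α hα z,
    ← genC_change φ hφ c c' hU α hα, ev_ressec, ev_res _ le_rfl, ev_homEquiv_symm]

include hφ in
theorem compat' (hi : HasCharts i r) (hF : Coh.IsQCoh F) {c c' : KChart i r} (hU : i ⁻¹ᵁ c'.U ≤ i ⁻¹ᵁ c.U)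
    (z : Sec ((HI i R).cycles (r : ℤ)) (i ⁻¹ᵁ c.U)) :
    (homEquiv (N := (Scheme.Modules.pullback i).obj F) (isGen_genC φ hφ c')).symm
        (resid R hF c' (res _ hU z)) =
      res _ hU
        ((homEquiv (N := (Scheme.Modules.pullback i).obj F) (isGen_genC φ hφ c)).symm (resid R hF c z)) := by
  apply eq_of_locally
  intro x hx
  obtain ⟨c2, hx2, hc2⟩ := hi x (c'.U ⊓ c.U) ⟨hx, hU hx⟩
  have h1 : c2.U ≤ c'.U := hc2.trans inf_le_left
  have h2 : c2.U ≤ c.U := hc2.trans inf_le_right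
  refine ⟨i ⁻¹ᵁ c2.U, i.preimage_mono h1, hx2, ?_⟩
  rw [← compat hφ hF h1, res_res, res_res, ← compat hφ hF h2]

end Glue

variable (R) in
/-- **The fundamental local isomorphism**: `H^r(Hom(O_X, I)) ≅ Hom(L, i^*F)`. -/
theorem main (hi : HasCharts i r) (hF : Coh.IsQCoh F) {L : X.Modules} (hL : ExtPow.IsExtPow r (Omega.conormal i) L) :
    Nonempty ((HI i R).homology (r : ℤ) ≅ homSheaf L ((Scheme.Modules.pullback i).obj F)) := by
  obtain ⟨φ, hφ⟩ := exists_phi hL
  refine Descend.nonempty_iso (HI i R) (p := (r : ℤ) - 1) (by omega) _ hi.isBasis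
    (fun c => (homEquiv (N := (Scheme.Modules.pullback i).obj F) (isGen_genC φ hφ c)).symm.toLinearMap ∘ₗ
      resid R hF c) ?_ ?_ ?_ ?_
  · intro c c' h z
    exact compat' hφ hi hF h z
  · intro c b
    rw [LinearMap.comp_apply, resid_boundary, map_zero]
  · intro c z hz
    rw [LinearMap.comp_apply] at hz
    exact exists_toCycles hF c z ((LinearEquiv.map_eq_zero_iff _).mp hz)
  · intro c
    rw [LinearMap.coe_comp]
    exact (homEquiv (N := (Scheme.Modules.pullback i).obj F) (isGen_genC φ hφ c)).symm.surjective.comp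
      (resid_surjective hF c)

end K273.Fund
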