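import Groth.Agent.ProjDual.K273.Charts
import Groth.Agent.Vancyc.H878.OmegaRank
import Groth.Agent.Dual.H366.LciImm
import Groth.Agent.Dual.H366.ClassMain
import Groth.Agent.Dual.H375.LciLocus

/-!
# Closed immersions between smooth schemes: Koszul charts

`s : X ⟶ W` a closed immersion, `w : W ⟶ Y` smooth of relative dimension `n`, `s ≫ w` smooth of relative dimension `r`,
`W` locally Noetherian: `s` has Koszul charts with `n - r` equations (`hasCharts_of_smooth`).
-/

set_option autoImplicit false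

universe u

open CategoryTheory CategoryTheory.Limits AlgebraicGeometry Opposite TopologicalSpace
open scoped TensorProduct
open Groth.Agent.Sga67 Groth.Agent.Sga67.Sec Groth.Agent.Sga67.LocBasis Groth.Agent.Sga67.ExtSheaf
open Groth.Agent.Dual.H377.KChart Groth.Agent.Dual.H376 Groth.Agent.Dual.H376.ChartExist
open Groth.Agent.Dual.H366.Conormal Groth.Agent.Dual.H366.ConSec Groth.Agent.Dual.H366.ClassMain
open K273.Charts

namespace K273.Smooth

section Chart

variable {X Y : Scheme.{u}} {i : X ⟶ Y}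

/-- Charts from a weakly regular sequence near a point. -/
theorem exists_chart_of_seq [IsClosedImmersion i] (V : Y.affineOpens) (l : List Γ(Y, V.1))
    (hl : RingTheory.Sequence.IsWeaklyRegular Γ(Y, V.1) l) (hk : i.ker.ideal V = Ideal.ofList l) (x : X)
    (hxV : i x ∈ V.1) (W : Y.Opens) (hW : i x ∈ W) : ∃ c : KChart i l.length, i x ∈ c.U ∧ c.U ≤ W := by
  obtain ⟨g, hgW, hxg⟩ := V.2.exists_basicOpen_le (V := W ⊓ V.1) ⟨i x, ⟨hW, hxV⟩⟩ hxV
  have hU' : IsAffineOpen (Y.basicOpen g) := V.2.basicOpen g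
  let ρ : Γ(Y, V.1) →+* Γ(Y, Y.basicOpen g) := (Y.presheaf.map (homOfLE (Y.basicOpen_le g)).op).hom
  let _ : Algebra Γ(Y, V.1) Γ(Y, Y.basicOpen g) := ρ.toAlgebra
  have hloc : IsLocalization.Away g Γ(Y, Y.basicOpen g) := V.2.isLocalization_basicOpen g
  have h1 : RingTheory.Sequence.IsWeaklyRegular Γ(Y, Y.basicOpen g) (l.map ρ) :=
    RingTheory.Sequence.IsWeaklyRegular.of_isLocalization (S := Γ(Y, Y.basicOpen g)) (T := Submonoid.powers g) hl
  have h2 : i.ker.ideal ⟨Y.basicOpen g, hU'⟩ = Ideal.ofList (l.map ρ) := by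
    have h1 := i.ker.map_ideal (U := ⟨Y.basicOpen g, hU'⟩) (V := V) (Y.basicOpen_le g)
    rw [← h1, hk, Ideal.map_ofList]
    rfl
  obtain ⟨c, hc⟩ := exists_kchart_of_regular (Y.basicOpen g) hU' (l.map ρ) h1 h2
  have hx : i x ∈ c.U := by rw [hc]; exact hxg
  have hle : c.U ≤ W := by rw [hc]; exact hgW.trans inf_le_left
  have hlen' : (l.map ρ).length = l.length := List.length_map ρ
  generalize (l.map ρ).length = n at c hx hle hlen'
  subst hlen'
  exact ⟨c, hx, hle⟩

/-- Charts of variable length of a regular closed immersion. -/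
theorem exists_chart_of_isRegularClosedImmersion (hi : Mor2.IsRegularClosedImmersion i) (x : X) (W : Y.Opens)
    (hW : i x ∈ W) : ∃ (r : ℕ) (c : KChart i r), i x ∈ c.U ∧ c.U ≤ W := by
  have := hi.1
  obtain ⟨V, hV, hxV, l, hl, hk⟩ := hi.2 x
  obtain ⟨c, hc⟩ := exists_chart_of_seq ⟨V, hV⟩ l (RingTheory.Sequence.IsRegular.toIsWeaklyRegular hl) hk x hxV W hW
  exact ⟨_, c, hc⟩

end Chart

variable {X W Y : Scheme.{u}} (s : X ⟶ W) [IsClosedImmersion s] (w : W ⟶ Y) (n r : ℕ)
  [SmoothOfRelativeDimension n w] [SmoothOfRelativeDimension r (s ≫ w)]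

/-- The length of a chart. -/
theorem length_add [QuasiCompact (pullback.diagonal w)] [QuasiCompact (pullback.diagonal (s ≫ w))] {m : ℕ}
    (c : KChart s m) (x : X) (hx : s x ∈ c.U) : m + r = n := by
  have hsw : AlgebraicGeometry.Smooth w := SmoothOfRelativeDimension.smooth n w
  have hss : AlgebraicGeometry.Smooth (s ≫ w) := SmoothOfRelativeDimension.smooth r (s ≫ w)
  obtain ⟨O₂, hxO₂, h2⟩ := Groth.Agent.Vancyc.H878.OmegaRank.isFinLocFreeOfRank_omega n w (s x)
  obtain ⟨e, he⟩ := nonempty_restrict_iso_iff.mp h2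
  obtain ⟨O₃, hxO₃, h3⟩ := Groth.Agent.Vancyc.H878.OmegaRank.isFinLocFreeOfRank_omega r (s ≫ w) x
  obtain ⟨o, ho⟩ := nonempty_restrict_iso_iff.mp h3
  obtain ⟨O', hxO', hO'⟩ := Groth.Agent.Dual.H366.ClassMain.exists_preimage s x O₃ hxO₃
  obtain ⟨ch, hch, hchO⟩ := exists_ch w (s x) ((O' ⊓ O₂) ⊓ c.U) ⟨⟨hxO', hxO₂⟩, hx⟩
  let B : X.Opens := s ⁻¹ᵁ ch.V
  have hxB : x ∈ B := hch
  have hB1 : B ≤ O₃ := (s.preimage_mono (hchO.trans (inf_le_left.trans inf_le_left))).trans hO'
  have hB2 : B ≤ s ⁻¹ᵁ O₂ := s.preimage_mono (hchO.trans (inf_le_left.trans inf_le_right))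
  have hB3 : B ≤ s ⁻¹ᵁ c.U := s.preimage_mono (hchO.trans inf_le_right)
  have hc' := (isLocBasis_bN c).basis hB3
  have he' := (Groth.Agent.Krr.H487.LocBasisPull.isLocBasis_pbS s he).basis hB2
  have ho' := ho.basis hB1
  let := (X.evaluation B x hxB).hom.toAlgebra
  have hinj : Function.Injective ((appS (dMap s w) B).baseChange (X.residueField x)) :=
    (Groth.Agent.Dual.H328.SmoothPt.mem_smoothLocus_iff s w ch x hxB).mp
      (by rw [Scheme.Hom.smoothLocus_eq_top]; trivial)
  have hex : Function.Exact (appS (dMap s w) B) (appS (pMap s w) B) := by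
    intro y
    constructor
    · exact ex_pMap s w ch y
    · rintro ⟨z, rfl⟩
      exact pMap_dMap s w ch.V ch.hV z
  have hex' := lTensor_exact (X.residueField x) hex (surj_pMap s w ch)
  have hsur := LinearMap.lTensor_surjective (X.residueField x) (surj_pMap s w ch)
  set f := (appS (dMap s w) B).baseChange (X.residueField x) with hf
  set g := (appS (pMap s w) B).baseChange (X.residueField x) with hg
  have hbc := hc'.baseChange (X.residueField x)
  have hbe := he'.baseChange (X.residueField x)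
  have hbo := ho'.baseChange (X.residueField x)
  have hfin : Module.Finite (X.residueField x) (X.residueField x ⊗[Γ(X, B)]
    Sec ((Scheme.Modules.pullback s).obj (Omega.sheaf w)) B) := Module.Finite.of_basis hbe
  have h1 := LinearMap.finrank_range_add_finrank_ker g
  have h2 : LinearMap.range g = ⊤ := LinearMap.range_eq_top.mpr hsur
  have h3 : LinearMap.ker g = LinearMap.range f := by
    ext y
    rw [LinearMap.mem_ker, LinearMap.mem_range]
    exact hex' y
  rw [h2, finrank_top, h3, LinearMap.finrank_range_of_inj hinj, Module.finrank_eq_card_basis hbc,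
    Module.finrank_eq_card_basis hbe, Module.finrank_eq_card_basis hbo, Fintype.card_fin, Fintype.card_fin,
    Fintype.card_fin] at h1
  omega

/-- A closed immersion between smooth schemes has Koszul charts. -/
theorem hasCharts_of_smooth [IsLocallyNoetherian W] [QuasiCompact (pullback.diagonal w)]
    [QuasiCompact (pullback.diagonal (s ≫ w))] : HasCharts s (n - r) := by
  intro x O hO
  have hsw : AlgebraicGeometry.Smooth w := SmoothOfRelativeDimension.smooth n w
  have hss : AlgebraicGeometry.Smooth (s ≫ w) := SmoothOfRelativeDimension.smooth r (s ≫ w)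
  obtain ⟨m, c, hc, hcO⟩ := exists_chart_of_isRegularClosedImmersion
    (Groth.Agent.Dual.H366.LciImm.isRegularClosedImmersion s w
      (Groth.Agent.Dual.H375.LciLocus.isLCIMor_of_smooth (s ≫ w))) x O hO
  have h := length_add s w n r c x hc
  have h' : m = n - r := by omega
  subst h'
  exact ⟨c, hc, hcO⟩

end K273.Smooth
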