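import Groth.Agent.ProjDual.K273.Fund
import Groth.Agent.ProjDual.K273.Smooth

/-!
# Local generators of the Ext sheaf over a Koszul chart

If `e` is a generator of `i^*F` over `i⁻¹U`, `U` a chart around each point of which there are small charts, the homology
sheaf `H^r(Hom(O_X, I))` has a generator over `i⁻¹U` (`exists_isGen`).
-/

set_option autoImplicit false

universe u

open CategoryTheory CategoryTheory.Limits AlgebraicGeometry Opposite TopologicalSpace
open Groth.Agent.Sga67 Groth.Agent.Sga67.Sec Groth.Agent.Sga67.LocBasis Groth.Agent.Sga67.ExtSheaf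
open Groth.Agent.Dual.H377.KChart Groth.Agent.Dual.H376 Groth.Agent.Dual.H376.ChartExist
  Groth.Agent.Dual.H376.GlueGen Groth.Agent.Dual.H376.DetSec Groth.Agent.Dual.H376.ExtData Groth.Agent.Dual.H376.Core
open Groth.Agent.Dual.H366.ConSec
open K273.PullClosed K273.Charts K273.EvF K273.Fund

namespace K273.GenLoc

variable {X Y : Scheme.{u}} {i : X ⟶ Y} [IsClosedImmersion i] [Dual3.HasHomO i] {r : ℕ} {F : Y.Modules}
  (R : InjectiveResolution F)

/-- Local generators of the Ext sheaf. -/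
theorem exists_isGen (hF : Coh.IsQCoh F) (c : KChart i r)
    (hb : ∀ (x : X) (W : Y.Opens), i x ∈ c.U → i x ∈ W → ∃ c' : KChart i r, i x ∈ c'.U ∧ c'.U ≤ W)
    {e : Sec ((Scheme.Modules.pullback i).obj F) (i ⁻¹ᵁ c.U)} (he : IsGen e) :
    ∃ τ : Sec ((HI i R).homology (r : ℤ)) (i ⁻¹ᵁ c.U), IsGen τ := by
  obtain ⟨z₀, hz₀⟩ := resid_surjective (i := i) (R := R) hF c e
  have hex : (ShortComplex.mk ((HI i R).toCycles ((r : ℤ) - 1) (r : ℤ)) ((HI i R).homologyπ (r : ℤ))
      ((HI i R).toCycles_comp_homologyπ _ _)).Exact :=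
    ShortComplex.exact_of_g_is_cokernel _ ((HI i R).homologyIsCokernel ((r : ℤ) - 1) (r : ℤ) (by simp))
  refine ⟨appS ((HI i R).homologyπ (r : ℤ)) _ z₀, ?_⟩
  rw [isGen_iff]
  -- small charts inside an open of `X`
  have hsm : ∀ (x : X) (V : X.Opens), V ≤ i ⁻¹ᵁ c.U → x ∈ V → ∃ c' : KChart i r, x ∈ i ⁻¹ᵁ c'.U ∧ c'.U ≤ c.U ∧
      i ⁻¹ᵁ c'.U ≤ V := by
    intro x V hV hx
    obtain ⟨O, hO, hOV⟩ := exists_open_preimage (i := i) hx
    obtain ⟨c', hc', hcO⟩ := hb x (O ⊓ c.U) (hV hx) ⟨hO, hV hx⟩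
    exact ⟨c', hc', hcO.trans inf_le_right, (i.preimage_mono (hcO.trans inf_le_left)).trans hOV⟩
  refine isLocBasis_of_locally' _ ?_ ?_
  · intro V hV
    rw [← LinearMap.ker_eq_bot, LinearMap.ker_eq_bot']
    intro a ha
    rw [comb_apply, Fin.sum_univ_one] at ha
    have ha0 : a 0 = 0 := by
      apply eqO_of_locally
      intro x hx
      rw [← appS_res, ← map_smul] at ha
      obtain ⟨W, hW, hxW, b, hb'⟩ := exists_locally_of_exact hex _ ha x hx
      obtain ⟨c', hxc', hc'U, hc'W⟩ := hsm x W (hW.trans hV) hxW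
      have h1 : res _ hc'W (res _ hW (a 0 • res _ hV z₀)) =
          appS ((HI i R).toCycles ((r : ℤ) - 1) (r : ℤ)) (i ⁻¹ᵁ c'.U) (res _ hc'W b) := by
        refine (congrArg (res _ hc'W) hb'.symm).trans ?_
        exact (appS_res _ hc'W b).symm
      have h2 : resid R hF c' (res _ hc'W (res _ hW (a 0 • res _ hV z₀))) = 0 := by
        rw [h1]
        exact resid_boundary hF c' _
      rw [res_res, res_smul, res_res] at h2
      obtain ⟨α, hα⟩ := exists_matrix c c' hc'U
      have h3 := resid_change hF hc'U α hα z₀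
      rw [hz₀] at h3
      rw [map_smul] at h2
      have h4 : resO X (hc'W.trans hW) (a 0) • res _ (i.preimage_mono hc'U) e = 0 := by
        rw [h3, smul_comm, h2, smul_zero]
      refine ⟨i ⁻¹ᵁ c'.U, hc'W.trans hW, hxc', ?_⟩
      rw [map_zero]
      apply (he _ (i.preimage_mono hc'U)).1
      change resO X (hc'W.trans hW) (a 0) • res _ (i.preimage_mono hc'U) e = 0 • _
      rw [h4, zero_smul]
    funext j
    rw [Fin.eq_zero j, ha0]
    rfl
  · intro V hV s x hx
    obtain ⟨W, hW, hxW, t, ht⟩ := locally_surjective_of_epi ((HI i R).homologyπ (r : ℤ)) s x hx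
    obtain ⟨c', hxc', hc'U, hc'W⟩ := hsm x W (hW.trans hV) hxW
    obtain ⟨α, hα⟩ := exists_matrix c c' hc'U
    have h3 := resid_change hF hc'U α hα z₀
    rw [hz₀] at h3
    obtain ⟨b, hb'⟩ := (he _ (i.preimage_mono hc'U)).2 (resid R hF c' (res _ hc'W t))
    beta_reduce at hb'
    rw [h3, smul_smul, ← map_smul] at hb'
    obtain ⟨y, hy⟩ := exists_toCycles hF c' (res _ hc'W t -
      (b * i.app c'.U α.det) • res _ (i.preimage_mono hc'U) z₀) (by
        rw [map_sub, hb', sub_self])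
    refine ⟨i ⁻¹ᵁ c'.U, hc'W.trans hW, i.preimage_mono hc'U, hxc', fun _ => b * i.app c'.U α.det, ?_⟩
    rw [comb_apply, Fin.sum_univ_one, ← appS_res, ← map_smul]
    have h5 : appS ((HI i R).homologyπ (r : ℤ)) (i ⁻¹ᵁ c'.U) (res _ hc'W t) =
        res _ (hc'W.trans hW) s := by
      rw [appS_res, ht, res_res]
    rw [← h5, ← sub_eq_zero, ← map_sub, ← neg_sub, map_neg, ← hy, ← appS_comp,
      (HI i R).toCycles_comp_homologyπ, appS_zero, neg_zero]

end K273.GenLoc
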