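import Groth.Agent.Dual.H366.ConSec
import Groth.Agent.Dual.H377.KChart
import Mathlib.LinearAlgebra.TensorProduct.RightExactness
import Mathlib.RingTheory.IsTensorProduct

/-!
# Sections of the pullback of a quasi-coherent module to a closed subscheme

For a closed immersion `i : X ⟶ Y`, a quasi-coherent `F` and an affine open `V` of `Y`, the map
`Γ(V, F) → Γ(i⁻¹V, i^*F)` is surjective with kernel `I(V) Γ(V, F)`.
-/

set_option autoImplicit false

universe u

open CategoryTheory CategoryTheory.Limits AlgebraicGeometry Opposite TopologicalSpace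
open Groth.Agent.Sga67.Sec Groth.Agent.Dual.H366.ConSec Groth.Agent.Dual.H377.KChart
open scoped TensorProduct

namespace K273.PullClosed

section Alg

variable {A B : Type u} [CommRing A] [CommRing B] [Algebra A B] {M N : Type u} [AddCommGroup M] [Module A M]
  [AddCommGroup N] [Module A N] [Module B N] [IsScalarTower A B N] {f : M →ₗ[A] N}

/-- Base change along a surjection: surjectivity. -/
theorem surjective_of_isBaseChange (hf : IsBaseChange B f) (h : Function.Surjective (algebraMap A B)) :
    Function.Surjective f := by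
  intro n
  refine hf.inductionOn n (motive := fun n => ∃ m, f m = n) ⟨0, map_zero _⟩ (fun m => ⟨m, rfl⟩) ?_ ?_
  · rintro b _ ⟨m, rfl⟩
    obtain ⟨a, rfl⟩ := h b
    exact ⟨a • m, by rw [map_smul, algebraMap_smul]⟩
  · rintro _ _ ⟨m, rfl⟩ ⟨m', rfl⟩
    exact ⟨m + m', map_add _ _ _⟩

/-- Base change along a surjection: the kernel. -/
theorem mem_of_isBaseChange (hf : IsBaseChange B f) (h : Function.Surjective (algebraMap A B)) (m : M)
    (hm : f m = 0) : m ∈ RingHom.ker (algebraMap A B) • (⊤ : Submodule A M) := by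
  let I : Ideal A := RingHom.ker (algebraMap A B)
  have hex : Function.Exact (I.subtype : I →ₗ[A] A) (Algebra.linearMap A B) := by
    intro a
    constructor
    · intro ha
      exact ⟨⟨a, ha⟩, rfl⟩
    · rintro ⟨⟨a, ha⟩, rfl⟩
      exact ha
  have h1 := rTensor_exact M hex h
  have h2 : (Algebra.linearMap A B).rTensor M ((1 : A) ⊗ₜ[A] m) = 0 := by
    rw [LinearMap.rTensor_tmul]
    have h3 : hf.equiv ((1 : B) ⊗ₜ[A] m) = 0 := by rw [hf.equiv_tmul, one_smul, hm]
    have h4 := (LinearEquiv.map_eq_zero_iff hf.equiv).mp h3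
    rw [Algebra.linearMap_apply, map_one]
    exact h4
  obtain ⟨t, ht⟩ := (h1 _).mp h2
  have h5 : m = TensorProduct.lid A M ((I.subtype : I →ₗ[A] A).rTensor M t) := by
    rw [ht, TensorProduct.lid_tmul, one_smul]
  rw [h5]
  clear h5 ht h2
  induction t using TensorProduct.induction_on with
  | zero => rw [map_zero, map_zero]; exact Submodule.zero_mem _
  | tmul a x =>
    rw [LinearMap.rTensor_tmul, TensorProduct.lid_tmul]
    exact Submodule.smul_mem_smul a.2 trivial
  | add a b ha hb => rw [map_add, map_add]; exact Submodule.add_mem _ ha hb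

end Alg

theorem exists_sum_of_mem_span_smul {A : Type u} [CommRing A] {M : Type u} [AddCommGroup M] [Module A M] {n : ℕ}
    (f : Fin n → A) (m : M) (hm : m ∈ Ideal.span (Set.range f) • (⊤ : Submodule A M)) :
    ∃ y : Fin n → M, m = ∑ j, f j • y j := by
  refine Submodule.smul_induction_on (p := fun m => ∃ y : Fin n → M, m = ∑ j, f j • y j) hm ?_ ?_
  · intro a ha x _
    induction ha using Submodule.span_induction with
    | mem a ha =>
      obtain ⟨j, rfl⟩ := ha
      refine ⟨Pi.single j x, ?_⟩
      rw [Finset.sum_eq_single j]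
      · rw [Pi.single_eq_same]
      · intro k _ hk
        rw [Pi.single_eq_of_ne hk, smul_zero]
      · intro h
        exact absurd (Finset.mem_univ j) h
    | zero => exact ⟨0, by simp⟩
    | add a b _ _ ha hb =>
      obtain ⟨y, hy⟩ := ha
      obtain ⟨z, hz⟩ := hb
      refine ⟨y + z, ?_⟩
      rw [add_smul, hy, hz, ← Finset.sum_add_distrib]
      exact Finset.sum_congr rfl fun j _ => (smul_add _ _ _).symm
    | smul a b _ hb =>
      obtain ⟨y, hy⟩ := hb
      refine ⟨a • y, ?_⟩
      rw [smul_assoc, hy, Finset.smul_sum]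
      exact Finset.sum_congr rfl fun j _ => smul_comm _ _ _
  · rintro x y ⟨x', hx'⟩ ⟨y', hy'⟩
    refine ⟨x' + y', ?_⟩
    rw [hx', hy', ← Finset.sum_add_distrib]
    exact Finset.sum_congr rfl fun j _ => (smul_add _ _ _).symm

variable {X Y : Scheme.{u}} (i : X ⟶ Y) [IsClosedImmersion i] (F : Y.Modules)

theorem app_surjective {V : Y.Opens} (hV : IsAffineOpen V) :
    Function.Surjective (i.appLE V (i ⁻¹ᵁ V) le_rfl).hom := by
  rw [Scheme.Hom.appLE_eq_app]
  exact i.app_surjective V hV

theorem secS_surjective (hF : Coh.IsQCoh F) {V : Y.Opens} (hV : IsAffineOpen V) :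
    Function.Surjective (secS i F V) := by
  let := algS i V
  let := modS i ((Scheme.Modules.pullback i).obj F) V
  have := tower i ((Scheme.Modules.pullback i).obj F) V
  exact surjective_of_isBaseChange (isBaseChange_secS i F hF hV (hV.preimage i)) (app_surjective i hV)

theorem mem_of_secS_eq_zero (hF : Coh.IsQCoh F) {V : Y.Opens} (hV : IsAffineOpen V) (x : Sec F V)
    (hx : secS i F V x = 0) : x ∈ i.ker.ideal ⟨V, hV⟩ • (⊤ : Submodule Γ(Y, V) (Sec F V)) := by
  let := algS i V
  let := modS i ((Scheme.Modules.pullback i).obj F) V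
  have := tower i ((Scheme.Modules.pullback i).obj F) V
  have h := mem_of_isBaseChange (isBaseChange_secS i F hF hV (hV.preimage i)) (app_surjective i hV) x hx
  have h2 : i.ker.ideal ⟨V, hV⟩ = RingHom.ker (algebraMap Γ(Y, V) Γ(X, i ⁻¹ᵁ V)) := by
    rw [Scheme.Hom.ker_apply]
    change _ = RingHom.ker (i.appLE V (i ⁻¹ᵁ V) le_rfl).hom
    rw [Scheme.Hom.appLE_eq_app]
  rw [h2]
  exact h

theorem secS_eq_zero_iff {r : ℕ} (c : KChart i r) (hF : Coh.IsQCoh F) (x : Sec F c.U) :
    secS i F c.U x = 0 ↔ ∃ y : Fin r → Sec F c.U, x = ∑ j, c.f j • y j := by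
  constructor
  · intro hx
    have h := mem_of_secS_eq_zero i F hF c.hU x hx
    rw [c.hker] at h
    exact exists_sum_of_mem_span_smul c.f x h
  · rintro ⟨y, rfl⟩
    rw [map_sum]
    refine Finset.sum_eq_zero fun j _ => ?_
    have h : c.f j ∈ i.ker.ideal ⟨c.U, c.hU⟩ := by
      rw [c.hker]
      exact Ideal.subset_span ⟨j, rfl⟩
    rw [Scheme.Hom.ker_apply] at h
    have h' : i.app c.U (c.f j) = 0 := h
    rw [secS_smul, h', zero_smul]

end K273.PullClosed
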